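import Groth.Prelude.Def_ChGrp
import Groth.Agent.Lib.AlgGrpBasic19.Basic
import Mathlib.AlgebraicGeometry.Sites.Fpqc

/-!
# fppf coverings in `Over S` and points of balanced products
-/

set_option autoImplicit false
set_option linter.style.haveILetI false
set_option backward.isDefEq.respectTransparency.types false
universe u

open CategoryTheory CategoryTheory.Limits MonoidalCategory CartesianMonoidalCategory MonObj GrpObj AlgebraicGeometry
open Opposite

namespace Groth.Agent.ChBal21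

/-- The pullback of a covering. -/
theorem exists_pullback_cover {X Y : Scheme.{u}} {R : Presieve Y} (hR : R ∈ Scheme.fppfPrecoverage Y) (p : X ⟶ Y) :
    ∃ R' ∈ Scheme.fppfPrecoverage X, ∀ ⦃U : Scheme.{u}⦄ (f : U ⟶ X), R' f →
      ∃ (U₀ : Scheme.{u}) (f₀ : U₀ ⟶ Y) (g : U ⟶ U₀), R f₀ ∧ g ≫ f₀ = f ≫ p := by
  obtain ⟨E, rfl⟩ := R.exists_eq_preZeroHypercover
  refine ⟨_, Precoverage.mem_coverings_of_isPullback (fun i => E.f i) hR p
    (fun i => pullback.fst p (E.f i)) (fun i => pullback.snd p (E.f i)) (fun i => IsPullback.of_hasPullback _ _), ?_⟩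
  rintro U f ⟨i⟩
  exact ⟨_, E.f i, pullback.snd p (E.f i), ⟨i⟩, pullback.condition.symm⟩

/-- Morphisms are separated by fppf coverings. -/
theorem hom_ext_cover {T Y : Scheme.{u}} {R : Presieve T} (hR : R ∈ Scheme.fppfPrecoverage T) {a b : T ⟶ Y}
    (h : ∀ ⦃U : Scheme.{u}⦄ (f : U ⟶ T), R f → f ≫ a = f ≫ b) : a = b := by
  have hs : Presieve.IsSheafFor (yoneda.obj Y) R := by
    rw [Presieve.isSheafFor_iff_generate]
    have hsh : Presieve.IsSheaf Scheme.fppfTopology (yoneda.obj Y) :=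
      GrothendieckTopology.Subcanonical.isSheaf_of_isRepresentable _
    exact hsh (Sieve.generate R) (Precoverage.generate_mem_toGrothendieck hR)
  exact hs.isSeparatedFor.ext fun _ f hf => h f hf

/-- Descent of a morphism landing in the source of a monomorphism. -/
theorem exists_lift_cover {T Y Z : Scheme.{u}} {R : Presieve T} (hR : R ∈ Scheme.fppfPrecoverage T) (m : Y ⟶ Z) [Mono m]
    (b : T ⟶ Z) (h : ∀ ⦃U : Scheme.{u}⦄ (f : U ⟶ T), R f → ∃ y : U ⟶ Y, y ≫ m = f ≫ b) :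
    ∃ y : T ⟶ Y, y ≫ m = b := by
  choose y hy using h
  have hs : Presieve.IsSheafFor (yoneda.obj Y) R := by
    rw [Presieve.isSheafFor_iff_generate]
    have hsh : Presieve.IsSheaf Scheme.fppfTopology (yoneda.obj Y) :=
      GrothendieckTopology.Subcanonical.isSheaf_of_isRepresentable _
    exact hsh (Sieve.generate R) (Precoverage.generate_mem_toGrothendieck hR)
  let x : Presieve.FamilyOfElements (yoneda.obj Y) R := fun U f hf => y f hf
  have hx : x.Compatible := by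
    intro U₁ U₂ V g₁ g₂ f₁ f₂ h₁ h₂ e
    change g₁ ≫ y f₁ h₁ = g₂ ≫ y f₂ h₂
    rw [← cancel_mono m, Category.assoc, Category.assoc, hy, hy, reassoc_of% e]
  refine ⟨hs.amalgamate x hx, hom_ext_cover hR fun U f hf => ?_⟩
  have e : f ≫ hs.amalgamate x hx = y f hf := hs.valid_glue hx f hf
  rw [← Category.assoc, e, hy]

variable {S : Scheme.{u}}

/-- A member of a covering of an `S`-scheme. -/
abbrev mem {T : Over S} {U : Scheme.{u}} (f : U ⟶ T.left) : Over S := Over.mk (f ≫ T.hom)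

/-- The arrow of a member. -/
abbrev memHom {T : Over S} {U : Scheme.{u}} (f : U ⟶ T.left) : mem f ⟶ T := Over.homMk f rfl

theorem hom_ext_over {T Y : Over S} {R : Presieve T.left} (hR : R ∈ Scheme.fppfPrecoverage T.left) {a b : T ⟶ Y}
    (h : ∀ ⦃U : Scheme.{u}⦄ (f : U ⟶ T.left), R f → memHom f ≫ a = memHom f ≫ b) : a = b :=
  Over.OverMorphism.ext (hom_ext_cover hR fun _ f hf => congrArg CommaMorphism.left (h f hf))

theorem exists_lift_over {T Y Z : Over S} {R : Presieve T.left} (hR : R ∈ Scheme.fppfPrecoverage T.left) (m : Y ⟶ Z)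
    [Mono m] (b : T ⟶ Z)
    (h : ∀ ⦃U : Scheme.{u}⦄ (f : U ⟶ T.left), R f → ∃ y : mem f ⟶ Y, y ≫ m = memHom f ≫ b) :
    ∃ y : T ⟶ Y, y ≫ m = b := by
  obtain ⟨y, hy⟩ := exists_lift_cover hR m.left b.left fun U f hf => by
    obtain ⟨y, hy⟩ := h f hf
    exact ⟨y.left, congrArg CommaMorphism.left hy⟩
  exact ⟨Over.homMk y (by rw [← Over.w m, reassoc_of% hy, Over.w b]), Over.OverMorphism.ext hy⟩

/-- Points lift locally through a locally trivial morphism. -/
theorem exists_cover_lift {P Y T : Over S} (q : P ⟶ Y)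
    (hq : NonAbH1.IsLocallyTrivialFor Scheme.fppfPrecoverage (Over.mk q.left : Over Y.left)) (y : T ⟶ Y) :
    ∃ R ∈ Scheme.fppfPrecoverage T.left, ∀ ⦃U : Scheme.{u}⦄ (f : U ⟶ T.left), R f →
      ∃ p : mem f ⟶ P, p ≫ q = memHom f ≫ y := by
  obtain ⟨R₀, hR₀, hsec⟩ := hq
  obtain ⟨R, hR, hlift⟩ := exists_pullback_cover hR₀ y.left
  refine ⟨R, hR, fun U f hf => ?_⟩
  obtain ⟨U₀, f₀, g, hf₀, hg⟩ := hlift f hf
  obtain ⟨s, hs⟩ := hsec f₀ hf₀
  have hs' : s ≫ q.left = f₀ := hs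
  have e : (g ≫ s) ≫ q.left = f ≫ y.left := by rw [Category.assoc, hs', hg]
  exact ⟨Over.homMk (g ≫ s) (by rw [← Over.w q, ← Category.assoc, e, Category.assoc, Over.w y]; rfl), Over.OverMorphism.ext e⟩

/-- Cartesian squares are detected on points. -/
theorem isPullback_of_points {P A B C : Over S} {f : P ⟶ A} {g : P ⟶ B} {h : A ⟶ C} {k : B ⟶ C}
    (w : f ≫ h = g ≫ k)
    (hu : ∀ (T : Over S) (a : T ⟶ A) (b : T ⟶ B), a ≫ h = b ≫ k → ∃! l : T ⟶ P, l ≫ f = a ∧ l ≫ g = b) :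
    IsPullback f g h k :=
  IsPullback.of_isLimit (c := PullbackCone.mk f g w)
    (PullbackCone.IsLimit.mk w (fun s => (hu s.pt s.fst s.snd s.condition).exists.choose)
      (fun s => (hu s.pt s.fst s.snd s.condition).exists.choose_spec.1)
      (fun s => (hu s.pt s.fst s.snd s.condition).exists.choose_spec.2)
      fun s m h1 h2 => (hu s.pt s.fst s.snd s.condition).unique ⟨h1, h2⟩
        (hu s.pt s.fst s.snd s.condition).exists.choose_spec)

variable {G H Z Y : Over S} [GrpObj G] [GrpObj H]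

/-- `j` is equivariant, on points. -/
theorem j_act {i : H ⟶ G} [IsMonHom i] {aZ : AlgGrp.Action H Z} {aY : AlgGrp.Action G Y} {j : G ⊗ Z ⟶ Y}
    {K : Precoverage Scheme.{u}} (hY : ChGrp.IsBalProd K i aZ aY j) {T : Over S} (q q' : T ⟶ G) (z : T ⟶ Z) :
    lift q (lift q' z ≫ j) ≫ aY.act = lift (q * q') z ≫ j := by
  have e := congrArg (fun m : G ⊗ (G ⊗ Z) ⟶ Y => lift q (lift q' z) ≫ m) hY.1
  rw [lift_whiskerLeft_assoc, ← Category.assoc, AlgGrp.Action.lift_prod_act, AlgGrp.Action.lift_trivial_act] at e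
  rw [← e]
  congr 2

/-- `j` is constant on orbits of the twisted action, on points. -/
theorem j_bal {i : H ⟶ G} [IsMonHom i] {aZ : AlgGrp.Action H Z} {aY : AlgGrp.Action G Y} {j : G ⊗ Z ⟶ Y}
    {K : Precoverage Scheme.{u}} (hY : ChGrp.IsBalProd K i aZ aY j) {T : Over S} (g : T ⟶ H) (q : T ⟶ G) (z : T ⟶ Z) :
    lift (q * (g ≫ i)⁻¹) (lift g z ≫ aZ.act) ≫ j = lift q z ≫ j := by
  rw [← ChGrp.lift_twist_act, Category.assoc, hY.2.1.w, lift_snd_assoc]

/-- Two pairs with the same image differ by the twisted action. -/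
theorem j_eq {i : H ⟶ G} [IsMonHom i] {aZ : AlgGrp.Action H Z} {aY : AlgGrp.Action G Y} {j : G ⊗ Z ⟶ Y}
    {K : Precoverage Scheme.{u}} (hY : ChGrp.IsBalProd K i aZ aY j) {T : Over S} {q q' : T ⟶ G} {z z' : T ⟶ Z}
    (h : lift q z ≫ j = lift q' z' ≫ j) : ∃ g : T ⟶ H, q' * (g ≫ i)⁻¹ = q ∧ lift g z' ≫ aZ.act = z := by
  have h1 := hY.2.1.lift_fst (lift q z) (lift q' z') h
  have h2 := hY.2.1.lift_snd (lift q z) (lift q' z') h
  generalize hY.2.1.lift (lift q z) (lift q' z') h = l at h1 h2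
  refine ⟨l ≫ fst H (G ⊗ Z), ?_⟩
  have hl : l = lift (l ≫ fst H (G ⊗ Z)) (lift q' z') := by rw [← h2, ← comp_lift, lift_fst_snd, Category.comp_id]
  rw [hl, ChGrp.lift_twist_act] at h1
  have e1 := congrArg (· ≫ fst G Z) h1
  have e2 := congrArg (· ≫ snd G Z) h1
  simp only [lift_fst, lift_snd] at e1 e2
  exact ⟨e1, e2⟩

end Groth.Agent.ChBal21
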