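import Groth.Agent.Lib.ChBal21.Basic
import Groth.Prelude.Def_W4bk4git07Quot

/-!
# Categorical quotients of a balanced product
-/

set_option autoImplicit false
set_option linter.style.haveILetI false
set_option backward.isDefEq.respectTransparency.types false
universe u

open CategoryTheory CategoryTheory.Limits MonoidalCategory CartesianMonoidalCategory MonObj GrpObj AlgebraicGeometry

namespace Groth.Agent.ChBal21

variable {S : Scheme.{u}}

/-- Morphisms descend along fppf-locally trivial morphisms. -/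
theorem exists_desc {A Y W : Over S} (q : A ⟶ Y)
    (hq : NonAbH1.IsLocallyTrivialFor Scheme.fppfPrecoverage (Over.mk q.left : Over Y.left)) (f : A ⟶ W)
    (hf : ∀ (T : Over S) (a b : T ⟶ A), a ≫ q = b ≫ q → a ≫ f = b ≫ f) :
    ∃ g : Y ⟶ W, q ≫ g = f := by
  obtain ⟨R, hR, hl⟩ := exists_cover_lift q hq (𝟙 Y)
  choose p hp using hl
  simp only [Category.comp_id] at hp
  have hs : Presieve.IsSheafFor (yoneda.obj W.left) R := by
    rw [Presieve.isSheafFor_iff_generate]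
    have hsh : Presieve.IsSheaf Scheme.fppfTopology (yoneda.obj W.left) :=
      GrothendieckTopology.Subcanonical.isSheaf_of_isRepresentable _
    exact hsh (Sieve.generate R) (Precoverage.generate_mem_toGrothendieck hR)
  let x : Presieve.FamilyOfElements (yoneda.obj W.left) R := fun U u hu => (p u hu ≫ f).left
  have hx : x.Compatible := by
    intro U₁ U₂ V g₁ g₂ f₁ f₂ h₁ h₂ e
    let T : Over S := Over.mk (g₁ ≫ f₁ ≫ Y.hom)
    let v₁ : T ⟶ mem f₁ := Over.homMk g₁ rfl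
    let v₂ : T ⟶ mem f₂ := Over.homMk g₂ (by
      show g₂ ≫ f₂ ≫ Y.hom = g₁ ≫ f₁ ≫ Y.hom
      rw [← reassoc_of% e])
    have hv : v₁ ≫ memHom f₁ = v₂ ≫ memHom f₂ := Over.OverMorphism.ext e
    have := hf T (v₁ ≫ p f₁ h₁) (v₂ ≫ p f₂ h₂) (by rw [Category.assoc, Category.assoc, hp, hp, hv])
    exact congrArg CommaMorphism.left ((Category.assoc _ _ _).symm.trans (this.trans (Category.assoc _ _ _)))
  have hval : ∀ ⦃U : Scheme.{u}⦄ (u : U ⟶ Y.left) (hu : R u), u ≫ hs.amalgamate x hx = (p u hu ≫ f).left :=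
    fun U u hu => hs.valid_glue hx u hu
  let g : Y ⟶ W := Over.homMk (hs.amalgamate x hx) (hom_ext_cover hR fun U u hu => by
    rw [← Category.assoc, hval u hu, Over.w (p u hu ≫ f)]; rfl)
  have hg : ∀ ⦃U : Scheme.{u}⦄ (u : U ⟶ Y.left) (hu : R u), memHom u ≫ g = p u hu ≫ f :=
    fun U u hu => Over.OverMorphism.ext (hval u hu)
  refine ⟨g, ?_⟩
  obtain ⟨R', hR', hlift⟩ := exists_pullback_cover hR q.left
  refine hom_ext_over hR' fun U u hu => ?_
  obtain ⟨U₀, f₀, c, hf₀, hc⟩ := hlift u hu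
  let v : mem u ⟶ mem f₀ := Over.homMk c (by
    show c ≫ f₀ ≫ Y.hom = u ≫ A.hom
    rw [reassoc_of% hc, Over.w q])
  have hv : v ≫ memHom f₀ = memHom u ≫ q := Over.OverMorphism.ext hc
  rw [← Category.assoc, ← hv, Category.assoc, hg f₀ hf₀, ← Category.assoc]
  exact hf _ _ _ (by rw [Category.assoc, hp, hv])

variable {G H Z Y P Q : Over S} [GrpObj G] [GrpObj H]

theorem exists_isIso_catQuot (i : H ⟶ G) [IsMonHom i] (aZ : AlgGrp.Action H Z) (aY : AlgGrp.Action G Y)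
    (j : G ⊗ Z ⟶ Y) (hY : ChGrp.IsBalProd Scheme.fppfPrecoverage i aZ aY j)
    (πZ : Z ⟶ P) (hP : GIT.IsCatQuot aZ πZ) (πY : Y ⟶ Q) (hQ : GIT.IsCatQuot aY πY) :
    ∃ (φ : P ⟶ Q) (χ : Q ⟶ P), φ ≫ χ = 𝟙 P ∧ χ ≫ φ = 𝟙 Q ∧
      πZ ≫ φ = lift (toUnit Z ≫ η[G]) (𝟙 Z) ≫ j ≫ πY ∧ j ≫ πY ≫ χ = snd G Z ≫ πZ := by
  have hZinv : ∀ {T : Over S} (h : T ⟶ H) (z : T ⟶ Z), lift h z ≫ aZ.act ≫ πZ = z ≫ πZ := fun h z => by
    have e : aZ.act ≫ πZ = snd H Z ≫ πZ := hP.1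
    rw [e, lift_snd_assoc]
  have hYinv : ∀ {T : Over S} (q : T ⟶ G) (y : T ⟶ Y), lift q y ≫ aY.act ≫ πY = y ≫ πY := fun q y => by
    have e : aY.act ≫ πY = snd G Y ≫ πY := hQ.1
    rw [e, lift_snd_assoc]
  have hshift : ∀ {T : Over S} (q : T ⟶ G) (z : T ⟶ Z), lift q z ≫ j ≫ πY = lift 1 z ≫ j ≫ πY := by
    intro T q z
    have := hYinv q (lift 1 z ≫ j)
    rw [← Category.assoc, j_act hY, _root_.mul_one, Category.assoc, Category.assoc] at this
    exact this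
  have h1 : ∀ {T : Over S} (z : T ⟶ Z), z ≫ lift (toUnit Z ≫ η[G]) (𝟙 Z) = lift 1 z := fun z => by
    rw [comp_lift, Category.comp_id, ← Category.assoc, comp_toUnit, Hom.one_def]
  have hinvψ : GIT.IsInvariant aZ (lift (toUnit Z ≫ η[G]) (𝟙 Z) ≫ j ≫ πY) := by
    show aZ.act ≫ _ = snd H Z ≫ _
    rw [← Category.assoc aZ.act, ← Category.assoc (snd H Z), h1, h1]
    have := j_bal hY (fst H Z) (fst H Z ≫ i) (snd H Z)
    rw [mul_inv_cancel, lift_fst_snd, Category.id_comp] at this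
    rw [reassoc_of% this, hshift]
  obtain ⟨φ, hφ, -⟩ := hP.2 Q _ hinvψ
  obtain ⟨g, hg⟩ := exists_desc j hY.2.2 (snd G Z ≫ πZ) fun T a b e => by
    obtain ⟨⟨q, z⟩, rfl⟩ : ∃ p : (T ⟶ G) × (T ⟶ Z), a = lift p.1 p.2 :=
      ⟨(a ≫ fst G Z, a ≫ snd G Z), by rw [← comp_lift, lift_fst_snd, Category.comp_id]⟩
    obtain ⟨⟨q', z'⟩, rfl⟩ : ∃ p : (T ⟶ G) × (T ⟶ Z), b = lift p.1 p.2 :=
      ⟨(b ≫ fst G Z, b ≫ snd G Z), by rw [← comp_lift, lift_fst_snd, Category.comp_id]⟩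
    obtain ⟨h, -, e2⟩ := j_eq hY e
    rw [lift_snd_assoc, lift_snd_assoc, ← e2, Category.assoc, hZinv]
  have hgp : ∀ {T : Over S} (q : T ⟶ G) (z : T ⟶ Z), lift q z ≫ j ≫ g = z ≫ πZ := fun q z => by
    rw [hg, lift_snd_assoc]
  have hinvg : GIT.IsInvariant aY g := by
    show aY.act ≫ g = snd G Y ≫ g
    obtain ⟨R, hR, hl⟩ := exists_cover_lift j hY.2.2 (snd G Y)
    refine hom_ext_over hR fun U u hu => ?_
    obtain ⟨p, hp⟩ := hl u hu
    have hp' : p = lift (p ≫ fst G Z) (p ≫ snd G Z) := by rw [← comp_lift, lift_fst_snd, Category.comp_id]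
    have hu' : memHom u = lift (memHom u ≫ fst G Y) (p ≫ j) := by
      rw [hp, ← comp_lift, lift_fst_snd, Category.comp_id]
    generalize hq : p ≫ fst G Z = q at hp'
    generalize hz : p ≫ snd G Z = z at hp'
    generalize hg' : memHom u ≫ fst G Y = g' at hu'
    rw [hu', lift_snd_assoc, hp', Category.assoc, hgp, ← Category.assoc, j_act hY, Category.assoc, hgp]
  obtain ⟨χ, hχ, -⟩ := hQ.2 P g hinvg
  refine ⟨φ, χ, ?_, ?_, hφ, by rw [hχ, hg]⟩
  · refine (hP.2 P πZ hP.1).unique ?_ (Category.comp_id _)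
    rw [← Category.assoc, hφ, Category.assoc, Category.assoc, hχ]
    exact (hgp _ _).trans (Category.id_comp _)
  · refine (hQ.2 Q πY hQ.1).unique ?_ (Category.comp_id _)
    rw [← Category.assoc, hχ]
    obtain ⟨R, hR, hl⟩ := exists_cover_lift j hY.2.2 (𝟙 Y)
    refine hom_ext_over hR fun U u hu => ?_
    obtain ⟨p, hp⟩ := hl u hu
    rw [Category.comp_id] at hp
    have hp' : p = lift (p ≫ fst G Z) (p ≫ snd G Z) := by rw [← comp_lift, lift_fst_snd, Category.comp_id]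
    generalize p ≫ fst G Z = q at hp'
    generalize p ≫ snd G Z = z at hp'
    rw [← hp, hp', Category.assoc, Category.assoc]
    calc lift q z ≫ j ≫ g ≫ φ = (lift q z ≫ j ≫ g) ≫ φ := by simp only [Category.assoc]
      _ = z ≫ lift (toUnit Z ≫ η[G]) (𝟙 Z) ≫ j ≫ πY := by rw [hgp, Category.assoc, hφ]
      _ = lift q z ≫ j ≫ πY := by rw [← Category.assoc z, h1, ← hshift]

end Groth.Agent.ChBal21
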