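import Groth.Agent.Lib.ChBal21.Basic

/-!
# Closed invariant subschemes of a balanced product
-/

set_option autoImplicit false
set_option linter.style.haveILetI false
set_option backward.isDefEq.respectTransparency.types false
universe u

open CategoryTheory CategoryTheory.Limits MonoidalCategory CartesianMonoidalCategory MonObj GrpObj AlgebraicGeometry

namespace Groth.Agent.ChBal21

variable {S : Scheme.{u}} {G H Z Y : Over S} [GrpObj G] [GrpObj H]

/-- An action restricts along a monomorphism through which it factors. -/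
def subAction {Z' : Over S} (aZ : AlgGrp.Action H Z) (c : Z' ⟶ Z) [Mono c] (act' : H ⊗ Z' ⟶ Z')
    (h : act' ≫ c = (H ◁ c) ≫ aZ.act) : AlgGrp.Action H Z' where
  act := act'
  one_act := by
    rw [← cancel_mono c, Category.assoc, h, ← whisker_exchange_assoc, aZ.one_act, leftUnitor_naturality]
  mul_act := by
    rw [← cancel_mono c]
    simp only [Category.assoc, h]
    rw [← whisker_exchange_assoc, aZ.mul_act, ← MonoidalCategory.whiskerLeft_comp_assoc, h,
      MonoidalCategory.whiskerLeft_comp_assoc, associator_naturality_right_assoc]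

theorem exists_closed_balProd {Y' : Over S} (i : H ⟶ G) [IsMonHom i] (aZ : AlgGrp.Action H Z)
    (aY : AlgGrp.Action G Y) (j : G ⊗ Z ⟶ Y) (hY : ChGrp.IsBalProd Scheme.fppfPrecoverage i aZ aY j)
    (c : Y' ⟶ Y) [IsClosedImmersion c.left] (aY' : AlgGrp.Action G Y')
    (hc : AlgGrp.Action.IsEquivariant aY' aY c) :
    ∃ (Z' : Over S) (c' : Z' ⟶ Z) (aZ' : AlgGrp.Action H Z') (j' : G ⊗ Z' ⟶ Y'),
      IsClosedImmersion c'.left ∧ AlgGrp.Action.IsEquivariant aZ' aZ c' ∧
      j' ≫ c = (G ◁ c') ≫ j ∧ ChGrp.IsBalProd Scheme.fppfPrecoverage i aZ' aY' j' := by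
  haveI : Mono c := (Over.forget S).mono_of_mono_map (inferInstanceAs (Mono c.left))
  let emb : Z ⟶ Y := lift (1 : Z ⟶ G) (𝟙 Z) ≫ j
  let Z' : Over S := Over.mk (pullback.fst emb.left c.left ≫ Z.hom)
  let c' : Z' ⟶ Z := Over.homMk (pullback.fst emb.left c.left) rfl
  let d : Z' ⟶ Y' := Over.homMk (pullback.snd emb.left c.left) (by
    show _ = pullback.fst emb.left c.left ≫ Z.hom
    rw [← Over.w emb, ← Category.assoc, pullback.condition, Category.assoc, Over.w c])
  have hcd : c' ≫ emb = d ≫ c := Over.OverMorphism.ext pullback.condition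
  haveI hci : IsClosedImmersion c'.left :=
    MorphismProperty.pullback_fst (P := @IsClosedImmersion) _ _ inferInstance
  haveI : Mono c' := (Over.forget S).mono_of_mono_map (inferInstanceAs (Mono c'.left))
  have hmem : ∀ (T : Over S) (z : T ⟶ Z) (y : T ⟶ Y'), lift 1 z ≫ j = y ≫ c →
      ∃ z' : T ⟶ Z', z' ≫ c' = z ∧ z' ≫ d = y := by
    intro T z y e
    have e' : z ≫ emb = y ≫ c := by
      rw [← e, ← Category.assoc, comp_lift, Category.comp_id, Hom.one_def, Hom.one_def, ← Category.assoc,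
        comp_toUnit]
    refine ⟨Over.homMk (pullback.lift z.left y.left (congrArg CommaMorphism.left e')) (by
      show pullback.lift _ _ _ ≫ pullback.fst emb.left c.left ≫ Z.hom = _
      rw [pullback.lift_fst_assoc, Over.w z]), Over.OverMorphism.ext (pullback.lift_fst _ _ _),
      Over.OverMorphism.ext (pullback.lift_snd _ _ _)⟩
  have hEmb : ∀ {T : Over S} (z' : T ⟶ Z'), lift 1 (z' ≫ c') ≫ j = z' ≫ d ≫ c := by
    intro T z'
    rw [← hcd, ← Category.assoc, ← Category.assoc, comp_lift, Category.comp_id, Hom.one_def, Hom.one_def,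
      ← Category.assoc, comp_toUnit]
  have hcact : ∀ {T : Over S} (q : T ⟶ G) (y : T ⟶ Y'), lift q y ≫ aY'.act ≫ c = lift q (y ≫ c) ≫ aY.act := by
    intro T q y
    have e : aY'.act ≫ c = (G ◁ c) ≫ aY.act := hc
    rw [e, lift_whiskerLeft_assoc]
  have hpair : ∀ {T W V : Over S} (p : T ⟶ W ⊗ V), p = lift (p ≫ fst W V) (p ≫ snd W V) := fun p => by
    rw [← comp_lift, lift_fst_snd, Category.comp_id]
  let j' : G ⊗ Z' ⟶ Y' := (G ◁ d) ≫ aY'.act
  have hj' : ∀ {T : Over S} (q : T ⟶ G) (z' : T ⟶ Z'), lift q z' ≫ j' ≫ c = lift q (z' ≫ c') ≫ j := by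
    intro T q z'
    rw [Category.assoc (G ◁ d), ← Category.assoc (lift q z'), lift_whiskerLeft, hcact, Category.assoc, ← hEmb, j_act hY,
      _root_.mul_one]
  have hjc : j' ≫ c = (G ◁ c') ≫ j := by
    have := hj' (fst G Z') (snd G Z')
    rw [lift_fst_snd, Category.id_comp] at this
    rw [this, ← lift_whiskerLeft_assoc, lift_fst_snd, Category.id_comp]
  clear_value j'
  -- invariance of `Z'`
  have hstab : ∃ act' : H ⊗ Z' ⟶ Z', act' ≫ c' = (H ◁ c') ≫ aZ.act := by
    obtain ⟨z', h1, -⟩ := hmem _ ((H ◁ c') ≫ aZ.act) (lift (fst H Z' ≫ i) (snd H Z' ≫ d) ≫ aY'.act) (by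
      rw [Category.assoc (lift _ _), hcact, Category.assoc, ← hEmb, j_act hY, _root_.mul_one]
      have e := j_bal hY (fst H Z') (fst H Z' ≫ i) (snd H Z' ≫ c')
      rw [mul_inv_cancel] at e
      have w : lift (fst H Z') (snd H Z' ≫ c') = H ◁ c' := by ext1 <;> simp
      rw [w] at e
      exact e)
    exact ⟨z', h1⟩
  obtain ⟨act', hact⟩ := hstab
  refine ⟨Z', c', subAction aZ c' act' hact, j', hci, hact, hjc, ?_⟩
  have hsq : IsPullback j' (G ◁ c') c j := by
    refine isPullback_of_points hjc fun T y p e => ?_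
    have hp := hpair p
    generalize p ≫ fst G Z = q at hp
    generalize p ≫ snd G Z = z at hp
    subst hp
    obtain ⟨z', h1, h2⟩ := hmem T z (lift q⁻¹ y ≫ aY'.act) (by
      rw [Category.assoc, hcact, e, j_act hY, inv_mul_cancel])
    refine ⟨lift q z', ⟨?_, by rw [lift_whiskerLeft, h1]⟩, ?_⟩
    · rw [← cancel_mono c, Category.assoc, hj', h1, e]
    · rintro l ⟨-, hl⟩
      rw [hpair l] at hl ⊢
      rw [lift_whiskerLeft] at hl
      have a1 := congrArg (· ≫ fst G Z) hl
      have a2 := congrArg (· ≫ snd G Z) hl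
      simp only [lift_fst, lift_snd] at a1 a2
      rw [a1, (cancel_mono c').1 (a2.trans h1.symm)]
  set tw := ChGrp.twist i aZ
  set tw' := ChGrp.twist i (subAction aZ c' act' hact)
  have htw : tw'.act ≫ (G ◁ c') = (H ◁ (G ◁ c')) ≫ tw.act := by
    have hsub : ∀ {T : Over S} (h : T ⟶ H) (z : T ⟶ Z'),
        lift h z ≫ (subAction aZ c' act' hact).act ≫ c' = lift h (z ≫ c') ≫ aZ.act := fun h z => by
      show lift h z ≫ act' ≫ c' = _
      rw [hact, lift_whiskerLeft_assoc]
    have key : ∀ {T : Over S} (h : T ⟶ H) (q : T ⟶ G) (z : T ⟶ Z'),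
        lift h (lift q z) ≫ tw'.act ≫ (G ◁ c') = lift h (lift q z) ≫ (H ◁ (G ◁ c')) ≫ tw.act := by
      intro T h q z
      rw [← Category.assoc, ChGrp.lift_twist_act, lift_whiskerLeft, lift_whiskerLeft_assoc, lift_whiskerLeft,
        ChGrp.lift_twist_act, Category.assoc, hsub]
    have := key (fst H (G ⊗ Z')) (snd H (G ⊗ Z') ≫ fst G Z') (snd H (G ⊗ Z') ≫ snd G Z')
    rwa [← comp_lift, lift_fst_snd, Category.comp_id, lift_fst_snd, Category.id_comp, Category.id_comp] at this
  haveI : Mono (G ◁ c') := by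
    refine ⟨fun {T} l l' e => ?_⟩
    rw [hpair l, hpair l'] at e ⊢
    rw [lift_whiskerLeft, lift_whiskerLeft] at e
    have a1 := congrArg (· ≫ fst G Z) e
    have a2 := congrArg (· ≫ snd G Z) e
    simp only [lift_fst, lift_snd] at a1 a2
    rw [a1, (cancel_mono c').1 a2]
  refine ⟨?_, ?_, ?_⟩
  · show _ ≫ j' = (G ◁ j') ≫ aY'.act
    rw [← cancel_mono c]
    have e : aY'.act ≫ c = (G ◁ c) ≫ aY.act := hc
    rw [Category.assoc, hjc, Category.assoc, e, ← MonoidalCategory.whiskerLeft_comp_assoc, hjc,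
      MonoidalCategory.whiskerLeft_comp_assoc, ← hY.1]
    rw [← Category.assoc, ← Category.assoc]
    congr 1
    ext1
    all_goals simp [← MonoidalCategory.whiskerLeft_comp_assoc, ← MonoidalCategory.whiskerLeft_comp]
  · refine isPullback_of_points ?_ fun T a b e => ?_
    · rw [← cancel_mono c, Category.assoc, Category.assoc, hjc, ← Category.assoc, htw, Category.assoc, hY.2.1.w]
      rw [whiskerLeft_snd_assoc]
    · have e' : (a ≫ (G ◁ c')) ≫ j = (b ≫ (G ◁ c')) ≫ j := by
        rw [Category.assoc, Category.assoc, ← hjc, reassoc_of% e]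
      obtain ⟨h, h1, h2⟩ : ∃ h : T ⟶ H ⊗ (G ⊗ Z), h ≫ tw.act = a ≫ (G ◁ c') ∧ h ≫ snd _ _ = b ≫ (G ◁ c') :=
        ⟨hY.2.1.lift _ _ e', hY.2.1.lift_fst _ _ e', hY.2.1.lift_snd _ _ e'⟩
      have hh : lift (h ≫ fst _ _) b ≫ (H ◁ (G ◁ c')) = h := by
        rw [lift_whiskerLeft, ← h2, ← comp_lift, lift_fst_snd, Category.comp_id]
      refine ⟨lift (h ≫ fst _ _) b, ⟨?_, lift_snd _ _⟩, ?_⟩
      · rw [← cancel_mono (G ◁ c'), Category.assoc, htw, reassoc_of% hh, h1]
      · rintro l ⟨l1, l2⟩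
        have : l ≫ (H ◁ (G ◁ c')) = h := by
          refine hY.2.1.hom_ext ?_ ?_
          · rw [Category.assoc, ← htw, reassoc_of% l1, h1]
          · rw [Category.assoc, whiskerLeft_snd, reassoc_of% l2, h2]
        rw [← this, Category.assoc, whiskerLeft_fst, ← l2, ← comp_lift, lift_fst_snd, Category.comp_id]
  · obtain ⟨R₀, hR₀, hsec⟩ := hY.2.2
    obtain ⟨R, hR, hlift⟩ := exists_pullback_cover hR₀ c.left
    refine ⟨R, hR, fun U f hf => ?_⟩
    obtain ⟨U₀, f₀, g, hf₀, hg⟩ := hlift f hf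
    obtain ⟨s, hs⟩ := hsec f₀ hf₀
    have hs' : s ≫ j.left = f₀ := hs
    have e : f ≫ c.left = (g ≫ s) ≫ j.left := by rw [Category.assoc, hs', hg]
    have hl := hsq.map (Over.forget S)
    exact ⟨hl.lift f (g ≫ s) e, hl.lift_fst f (g ≫ s) e⟩

end Groth.Agent.ChBal21
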