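import Groth.Agent.Lib.ChBal21.Basic
import Groth.Agent.Lib.AlgSpace.MorDiag

/-!
# Fixed points of a central element on a balanced product
-/

set_option autoImplicit false
set_option linter.style.haveILetI false
set_option backward.isDefEq.respectTransparency.types false
universe u

open CategoryTheory CategoryTheory.Limits MonoidalCategory CartesianMonoidalCategory MonObj GrpObj AlgebraicGeometry

namespace Groth.Agent.ChBal21

theorem fixedPts
    {S : Scheme.{u}} {Q G X Xh Y Y' : Over S} [GrpObj Q] [GrpObj G]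
    (i : G ⟶ Q) [IsMonHom i] [Mono i]
    (h : 𝟙_ (Over S) ⟶ G)
    (hcent : ∀ (T : Over S) (q : T ⟶ Q), q * (toUnit T ≫ h ≫ i) = (toUnit T ≫ h ≫ i) * q)
    (a : AlgGrp.Action G X)
    (incl : Xh ⟶ X) [Mono incl]
    (hXh : ∀ (T : Over S) (x : T ⟶ X), (∃ y : T ⟶ Xh, y ≫ incl = x) ↔ lift (toUnit T ≫ h) x ≫ a.act = x)
    (aXh : AlgGrp.Action G Xh) (hincl : AlgGrp.Action.IsEquivariant aXh a incl)
    (aY : AlgGrp.Action Q Y) (j : Q ⊗ X ⟶ Y) (hY : ChGrp.IsBalProd Scheme.fppfPrecoverage i a aY j)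
    (aY' : AlgGrp.Action Q Y') (j' : Q ⊗ Xh ⟶ Y') (hY' : ChGrp.IsBalProd Scheme.fppfPrecoverage i aXh aY' j')
    (m : Y' ⟶ Y) (hm : j' ≫ m = (Q ◁ incl) ≫ j) :
    Mono m ∧
      (∀ (T : Over S) (y : T ⟶ Y), (∃ y' : T ⟶ Y', y' ≫ m = y) ↔ lift (toUnit T ≫ h ≫ i) y ≫ aY.act = y) ∧
      (IsClosedImmersion incl.left → IsClosedImmersion m.left) := by
  have hpair : ∀ {T W V : Over S} (p : T ⟶ W ⊗ V), p = lift (p ≫ fst W V) (p ≫ snd W V) := fun p => by
    rw [← comp_lift, lift_fst_snd, Category.comp_id]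
  have hjm : ∀ {T : Over S} (q : T ⟶ Q) (x : T ⟶ Xh), lift q x ≫ j' ≫ m = lift q (x ≫ incl) ≫ j := fun q x => by
    rw [hm, lift_whiskerLeft_assoc]
  have hinclp : ∀ {T : Over S} (g : T ⟶ G) (x : T ⟶ Xh),
      lift g x ≫ aXh.act ≫ incl = lift g (x ≫ incl) ≫ a.act := fun g x => by
    rw [hincl, lift_whiskerLeft_assoc]
  -- fixed pairs
  have hfix : ∀ {T : Over S} (q : T ⟶ Q) (x : T ⟶ X),
      lift (toUnit T ≫ h ≫ i) (lift q x ≫ j) ≫ aY.act = lift q x ≫ j →
        lift (toUnit T ≫ h) x ≫ a.act = x := by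
    intro T q x e
    rw [j_act hY, ← hcent] at e
    obtain ⟨g, e1, e2⟩ := j_eq hY e
    have e1' : g ≫ i = (toUnit T ≫ h ≫ i)⁻¹ := inv_injective (by rw [_root_.inv_inv]; exact mul_left_cancel e1)
    have hg : g = (toUnit T ≫ h)⁻¹ := by
      rw [← cancel_mono i, e1', GrpObj.inv_comp, Category.assoc]
    conv_lhs => rw [← e2]
    rw [← AlgGrpBasic19.act_mul, hg, mul_inv_cancel, AlgGrpBasic19.act_one]
  have hmono : Mono m := by
    refine ⟨fun {T} y₁ y₂ e => ?_⟩
    obtain ⟨R₁, hR₁, hl₁⟩ := exists_cover_lift j' hY'.2.2 y₁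
    refine hom_ext_over hR₁ fun U f hf => ?_
    obtain ⟨p₁, hp₁⟩ := hl₁ f hf
    obtain ⟨R₂, hR₂, hl₂⟩ := exists_cover_lift j' hY'.2.2 (memHom f ≫ y₂)
    refine hom_ext_over hR₂ fun V f' hf' => ?_
    obtain ⟨p₂, hp₂⟩ := hl₂ f' hf'
    rw [← hp₂, ← hp₁]
    have e' : (memHom f' ≫ p₁) ≫ j' ≫ m = p₂ ≫ j' ≫ m := by
      rw [Category.assoc, reassoc_of% hp₁, reassoc_of% hp₂, e]
    rw [← Category.assoc (memHom f') p₁]
    generalize memHom f' ≫ p₁ = s₁ at e'
    rw [hpair s₁, hpair p₂, hjm, hjm] at e'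
    obtain ⟨g, e1, e2⟩ := j_eq hY e'
    rw [hpair s₁, hpair p₂, ← j_bal hY' g (p₂ ≫ fst Q Xh) (p₂ ≫ snd Q Xh), e1]
    congr 2
    rw [← cancel_mono incl, Category.assoc (lift g _), hinclp]
    exact e2.symm
  have hchar : ∀ (T : Over S) (y : T ⟶ Y), (∃ y' : T ⟶ Y', y' ≫ m = y) ↔
      lift (toUnit T ≫ h ≫ i) y ≫ aY.act = y := by
    intro T y
    constructor
    · rintro ⟨y', rfl⟩
      obtain ⟨R, hR, hl⟩ := exists_cover_lift j' hY'.2.2 y'
      refine hom_ext_over hR fun U f hf => ?_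
      obtain ⟨p, hp⟩ := hl f hf
      rw [← Category.assoc, comp_lift, ← Category.assoc (memHom f), comp_toUnit, ← Category.assoc (memHom f) y', ← hp,
        Category.assoc p]
      generalize p ≫ fst Q Xh = q
      rw [hpair p, hjm, j_act hY, ← hcent]
      generalize p ≫ fst Q Xh = q
      generalize p ≫ snd Q Xh = x
      have hx : lift (toUnit _ ≫ h) (x ≫ incl) ≫ a.act = x ≫ incl := (hXh _ _).1 ⟨x, rfl⟩
      rw [← j_bal hY (toUnit _ ≫ h) (q * (toUnit _ ≫ h ≫ i)), hx, Category.assoc (toUnit _), mul_inv_cancel_right]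
    · intro e
      obtain ⟨R, hR, hl⟩ := exists_cover_lift j hY.2.2 y
      refine exists_lift_over hR m y fun U f hf => ?_
      obtain ⟨p, hp⟩ := hl f hf
      have e' : lift (toUnit (mem f) ≫ h ≫ i) (p ≫ j) ≫ aY.act = p ≫ j := by
        rw [hp]
        conv_rhs => rw [← e]
        rw [← Category.assoc (memHom f), comp_lift, ← Category.assoc (memHom f), comp_toUnit]
      rw [hpair p] at e'
      obtain ⟨x, hx⟩ := (hXh _ _).2 (hfix _ _ e')
      exact ⟨lift (p ≫ fst Q X) x ≫ j', by rw [Category.assoc, hjm, hx, ← hpair, hp]⟩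
  refine ⟨hmono, hchar, fun hci => ?_⟩
  have hsq : IsPullback j' (Q ◁ incl) m j := by
    refine isPullback_of_points hm fun T y p e => ?_
    have hf := (hchar T (p ≫ j)).1 ⟨y, e⟩
    rw [hpair p] at hf
    obtain ⟨x, hx⟩ := (hXh _ _).2 (hfix _ _ hf)
    refine ⟨lift (p ≫ fst Q X) x, ⟨?_, ?_⟩, ?_⟩
    · rw [← cancel_mono m, Category.assoc, hjm, hx, ← hpair, e]
    · rw [lift_whiskerLeft, hx, ← hpair]
    · rintro l ⟨-, hl⟩
      rw [hpair l] at hl ⊢
      rw [lift_whiskerLeft] at hl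
      have h1 := congrArg (· ≫ fst Q X) hl
      have h2 := congrArg (· ≫ snd Q X) hl
      simp only [lift_fst, lift_snd] at h1 h2
      rw [h1, (cancel_mono incl).1 (h2.trans hx.symm)]
  have hsq' : IsPullback j'.left (Q ◁ incl).left m.left j.left := hsq.map (Over.forget S)
  have hwl : IsClosedImmersion (Q ◁ incl).left := by
    have h2 : IsPullback (fst Q X).left (snd Q X).left Q.hom X.hom := IsPullback.of_hasPullback Q.hom X.hom
    have e : (Q ◁ incl).left ≫ (fst Q X).left = (fst Q Xh).left := by rw [← Over.comp_left, whiskerLeft_fst]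
    have h1 : IsPullback ((Q ◁ incl).left ≫ (fst Q X).left) (snd Q Xh).left Q.hom (incl.left ≫ X.hom) := by
      rw [e, Over.w incl]; exact IsPullback.of_hasPullback Q.hom Xh.hom
    exact MorphismProperty.of_isPullback (P := @IsClosedImmersion)
      (IsPullback.of_right h1 (by rw [← Over.comp_left, ← Over.comp_left, whiskerLeft_snd]) h2).flip hci
  haveI := AlgSpace.isLocalAtTarget_fppf_isClosedImmersion.{u}
  obtain ⟨R, hR, hsec⟩ := hY.2.2
  refine MorphismProperty.IsLocalAtTarget.of_forall_pullbackSnd hR fun {U} f _ hf => ?_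
  obtain ⟨s, hs⟩ := hsec f hf
  have hs' : s ≫ j.left = f := hs
  subst hs'
  let big := hsq'.flip
  exact MorphismProperty.of_isPullback (P := @IsClosedImmersion)
    (((IsPullback.of_hasPullback m.left (s ≫ j.left)).of_right'
      hsq').flip.flip) hwl

end Groth.Agent.ChBal21
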