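import Groth.Agent.Lib.ChBal21.Basic

/-!
# The stabiliser part over a conjugacy class is a balanced product
-/

set_option autoImplicit false
set_option linter.style.haveILetI false
set_option backward.isDefEq.respectTransparency.types false
universe u

open CategoryTheory CategoryTheory.Limits MonoidalCategory CartesianMonoidalCategory MonObj GrpObj AlgebraicGeometry

namespace Groth.Agent.ChBal21

theorem isBalProd_stab
    {S : Scheme.{u}} {G X Z Ψ Xh SΨ : Over S} [GrpObj G] [GrpObj Z]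
    (a : AlgGrp.Action G X) (h : 𝟙_ (Over S) ⟶ G)
    (i : Z ⟶ G) [IsMonHom i]
    (ψ : Ψ ⟶ G) [Mono ψ] (aΨ : AlgGrp.Action G Ψ)
    (hψ : aΨ.act ≫ ψ = fst G Ψ * (snd G Ψ ≫ ψ) * (fst G Ψ)⁻¹)
    (o : 𝟙_ (Over S) ⟶ Ψ) (ho : o ≫ ψ = h)
    (hhom : ChGrp.IsHomog Scheme.fppfPrecoverage i aΨ o)
    (incl : Xh ⟶ X) [Mono incl]
    (hXh : ∀ (T : Over S) (x : T ⟶ X), (∃ y : T ⟶ Xh, y ≫ incl = x) ↔ lift (toUnit T ≫ h) x ≫ a.act = x)
    (aXh : AlgGrp.Action Z Xh) (hincl : AlgGrp.Action.IsEquivariant aXh (a.restrict i) incl)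
    (σ : SΨ ⟶ G ⊗ X) [Mono σ]
    (hSΨ : ∀ (T : Over S) (g : T ⟶ G) (x : T ⟶ X),
      (∃ q : T ⟶ SΨ, q ≫ σ = lift g x) ↔ ((∃ y : T ⟶ Ψ, y ≫ ψ = g) ∧ lift g x ≫ a.act = x))
    (aS : AlgGrp.Action G SΨ)
    (hσ : aS.act ≫ σ = lift (fst G SΨ * (snd G SΨ ≫ σ ≫ fst G X) * (fst G SΨ)⁻¹)
      (lift (fst G SΨ) (snd G SΨ ≫ σ ≫ snd G X) ≫ a.act))
    (Φ : G ⊗ Xh ⟶ SΨ)
    (hΦ : Φ ≫ σ = lift (fst G Xh * (toUnit (G ⊗ Xh) ≫ h) * (fst G Xh)⁻¹)
      (lift (fst G Xh) (snd G Xh ≫ incl) ≫ a.act)) :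
    ChGrp.IsBalProd Scheme.fppfPrecoverage i aXh aS Φ := by
  have hinclp : ∀ {T : Over S} (z : T ⟶ Z) (y : T ⟶ Xh),
      lift z y ≫ aXh.act ≫ incl = lift (z ≫ i) (y ≫ incl) ≫ a.act := fun z y => by
    rw [hincl, lift_whiskerLeft_assoc, AlgGrp.Action.lift_restrict_act]
  have hΦp : ∀ {T : Over S} (g : T ⟶ G) (y : T ⟶ Xh),
      lift g y ≫ Φ ≫ σ = lift (g * (toUnit T ≫ h) * g⁻¹) (lift g (y ≫ incl) ≫ a.act) := fun {T} g y => by
    rw [hΦ, comp_lift, comp_lift_assoc, MonObj.comp_mul, MonObj.comp_mul, GrpObj.comp_inv, lift_fst, lift_snd_assoc,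
      ← Category.assoc, comp_toUnit]
  have horb : ∀ {T : Over S} (g : T ⟶ G), g ≫ aΨ.orbitMap o ≫ ψ = g * (toUnit T ≫ h) * g⁻¹ := fun {T} g => by
    rw [AlgGrp.Action.comp_orbitMap_assoc, hψ, MonObj.comp_mul, MonObj.comp_mul, GrpObj.comp_inv, lift_fst,
      lift_snd_assoc, Category.assoc, ho]
  refine ⟨?_, isPullback_of_points ?_ ?_, ?_⟩
  · show _ = _
    rw [← cancel_mono σ]
    refine AlgGrp.Action.hom_ext_lift₂ fun T g p => ?_
    have hp : p = lift (p ≫ fst G Xh) (p ≫ snd G Xh) := by rw [← comp_lift, lift_fst_snd, Category.comp_id]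
    rw [hp]
    generalize p ≫ fst G Xh = g'
    generalize p ≫ snd G Xh = y
    simp only [Category.assoc]
    rw [AlgGrp.Action.lift_prod_act_assoc,
      AlgGrp.Action.lift_trivial_act, lift_whiskerLeft_assoc, hΦp, hσ, comp_lift, comp_lift_assoc,
      MonObj.comp_mul, MonObj.comp_mul, GrpObj.comp_inv, lift_fst, lift_snd_assoc, Category.assoc]
    have e1 := congrArg (· ≫ fst G X) (hΦp g' y)
    have e2 := congrArg (· ≫ snd G X) (hΦp g' y)
    simp only [lift_fst, lift_snd, Category.assoc] at e1 e2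
    rw [e1, lift_snd_assoc, Category.assoc, e2, ← AlgGrpBasic19.act_mul]
    have hm : lift g g' ≫ (NonAbH1.trivialAction G).act = g * g' := by
      simp only [NonAbH1.trivialAction]
      rw [Hom.mul_def]
    rw [hm]
    congr 1
    group
  · rw [← cancel_mono σ]
    refine AlgGrp.Action.hom_ext_lift₂ fun T z p => ?_
    have hp : p = lift (p ≫ fst G Xh) (p ≫ snd G Xh) := by rw [← comp_lift, lift_fst_snd, Category.comp_id]
    rw [hp]
    generalize p ≫ fst G Xh = g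
    generalize p ≫ snd G Xh = y
    simp only [Category.assoc]
    rw [ChGrp.lift_twist_act_assoc, lift_snd_assoc, hΦp, hΦp, Category.assoc, hinclp, ← AlgGrpBasic19.act_mul, inv_mul_cancel_right]
    congr 1
    have e := congrArg (· ≫ ψ) (congrArg (fun m : G ⊗ Z ⟶ Ψ => lift (g * (z ≫ i)⁻¹) z ≫ m) hhom.2.1.w)
    simp only [lift_fst_assoc, lift_whiskerLeft_assoc, Category.assoc] at e
    rw [horb, ← Category.assoc (lift _ (z ≫ i)), ← Hom.mul_def, inv_mul_cancel_right, horb] at e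
    exact e
  · intro T a₁ b₁ e
    have ha : a₁ = lift (a₁ ≫ fst G Xh) (a₁ ≫ snd G Xh) := by rw [← comp_lift, lift_fst_snd, Category.comp_id]
    have hb : b₁ = lift (b₁ ≫ fst G Xh) (b₁ ≫ snd G Xh) := by rw [← comp_lift, lift_fst_snd, Category.comp_id]
    rw [ha, hb] at e ⊢
    generalize a₁ ≫ fst G Xh = g, a₁ ≫ snd G Xh = x, b₁ ≫ fst G Xh = g', b₁ ≫ snd G Xh = x' at e ⊢
    have e' := congrArg (· ≫ σ) e
    simp only [Category.assoc] at e'
    rw [hΦp, hΦp] at e'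
    have e1 := congrArg (· ≫ fst G X) e'
    have e2 := congrArg (· ≫ snd G X) e'
    simp only [lift_fst, lift_snd] at e1 e2
    have ho' : g ≫ aΨ.orbitMap o = g' ≫ aΨ.orbitMap o := by
      rw [← cancel_mono ψ, Category.assoc, Category.assoc, horb, horb, e1]
    have hl1 := hhom.2.1.lift_fst g g' ho'
    have hl2 := hhom.2.1.lift_snd g g' ho'
    generalize hhom.2.1.lift g g' ho' = l at hl1 hl2
    have hl : l = lift g (l ≫ snd G Z) := by
      conv_rhs => arg 1; rw [← hl1]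
      rw [← comp_lift, lift_fst_snd, Category.comp_id]
    generalize l ≫ snd G Z = z at hl
    rw [hl, lift_whiskerLeft_assoc, ← Hom.mul_def] at hl2
    subst hl2
    refine ⟨lift z (lift (g * (z ≫ i)) x'), ⟨?_, lift_snd _ _⟩, ?_⟩
    · rw [ChGrp.lift_twist_act, mul_inv_cancel_right]
      congr 1
      rw [← cancel_mono incl, Category.assoc, hinclp]
      have e3 : lift g⁻¹ (lift g (x ≫ incl) ≫ a.act) ≫ a.act =
          lift g⁻¹ (lift (g * (z ≫ i)) (x' ≫ incl) ≫ a.act) ≫ a.act := by rw [e2]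
      rw [← AlgGrpBasic19.act_mul, ← AlgGrpBasic19.act_mul, inv_mul_cancel, inv_mul_cancel_left,
        AlgGrpBasic19.act_one] at e3
      exact e3.symm
    · rintro l' ⟨h1, h2⟩
      have hl' : l' = lift (l' ≫ fst Z (G ⊗ Xh)) (lift (g * (z ≫ i)) x') := by
        rw [← h2, ← comp_lift, lift_fst_snd, Category.comp_id]
      rw [hl'] at h1 ⊢
      generalize l' ≫ fst Z (G ⊗ Xh) = z' at h1
      have h1' := congrArg (· ≫ fst G Xh) h1
      simp only [ChGrp.lift_twist_act, lift_fst] at h1'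
      have hz : lift g z' = lift g z := hhom.2.1.hom_ext (by simp) (by
        rw [lift_whiskerLeft_assoc, lift_whiskerLeft_assoc, ← Hom.mul_def, ← Hom.mul_def]
        rw [mul_inv_eq_iff_eq_mul] at h1'
        exact h1'.symm)
      have := congrArg (· ≫ snd G Z) hz
      simp only [lift_snd] at this
      rw [this]
  · obtain ⟨⟨p, hp⟩, -⟩ := (hSΨ SΨ (σ ≫ fst G X) (σ ≫ snd G X)).1
      ⟨𝟙 _, by rw [Category.id_comp, ← comp_lift, lift_fst_snd, Category.comp_id]⟩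
    obtain ⟨R, hR, hlift⟩ := exists_cover_lift (aΨ.orbitMap o) hhom.2.2 p
    refine ⟨R, hR, fun U f hf => ?_⟩
    obtain ⟨g, hg⟩ := hlift f hf
    set s := memHom f with hs
    set g₀ := s ≫ σ ≫ fst G X with hg₀
    set x₀ := s ≫ σ ≫ snd G X with hx₀
    have e0 : g * (toUnit _ ≫ h) * g⁻¹ = g₀ := by
      rw [← horb, ← Category.assoc, hg, Category.assoc, hp]
    have efix : lift g₀ x₀ ≫ a.act = x₀ :=
      ((hSΨ _ g₀ x₀).1 ⟨s, by rw [hg₀, hx₀, ← comp_lift, ← comp_lift, lift_fst_snd, Category.comp_id]⟩).2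
    obtain ⟨y, hy⟩ := (hXh _ (lift g⁻¹ x₀ ≫ a.act)).2 (by
      rw [← AlgGrpBasic19.act_mul]
      conv_rhs => rw [← efix, ← AlgGrpBasic19.act_mul, ← e0]
      congr 2
      group)
    refine ⟨(lift g y).left, ?_⟩
    have e : lift g y ≫ Φ = s := by
      rw [← cancel_mono σ, Category.assoc, hΦp, e0, hy, ← AlgGrpBasic19.act_mul, mul_inv_cancel,
        AlgGrpBasic19.act_one, hg₀, hx₀, ← comp_lift, ← comp_lift, lift_fst_snd, Category.comp_id]
    exact congrArg CommaMorphism.left e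

end Groth.Agent.ChBal21
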